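import Cfsg.Agent.Fusion91.Solvable
import Cfsg.Agent.Fus93.Criteria
import Cfsg.Agent.Lib.Fusion.Constrained
import Cfsg.Agent.Lib.Fusion.Alperin
import Cfsg.Agent.Lib.Fusion.CenterIndex
import Cfsg.Agent.Fusion91.PSL.Simple

set_option autoImplicit false

/-!
Saturated systems with non-trivial core over groups of Heisenberg kind are constrained, so
realizable.
-/

namespace Cfsg.Agent.Fusion91

open Cfsg Cfsg.Agent.Fusion Cfsg.Agent.Fusion.CenterIndex
open Cfsg.FusionSystem (normalizerIn centralizerIn)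

universe u

/-- A group of class at most two in which the centralizers of non-central elements are abelian
and every non-central element has the whole centre as its set of commutators. -/
structure HeisKind (G : Type*) [Group G] : Prop where
  comm : ∀ x y : G, x * y * x⁻¹ * y⁻¹ ∈ Subgroup.center G
  abc : ∀ x : G, x ∉ Subgroup.center G → ∀ a b : G, Commute a x → Commute b x → Commute a b
  full : ∀ x : G, x ∉ Subgroup.center G → ∀ z ∈ Subgroup.center G, ∃ s : G, s * x * s⁻¹ = x * z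

theorem HeisKind.of_equiv {G H : Type*} [Group G] [Group H] (e : G ≃* H) (h : HeisKind H) :
    HeisKind G := by
  have hc : ∀ x : G, x ∈ Subgroup.center G ↔ e x ∈ Subgroup.center H := fun x => by
    simp only [Subgroup.mem_center_iff]
    exact ⟨fun hx y => e.symm.injective (by simpa using hx (e.symm y)),
      fun hx y => e.injective (by simpa using hx (e y))⟩
  refine ⟨fun x y => (hc _).mpr (by simpa using h.comm (e x) (e y)), fun x hx a b ha hb => ?_,
    fun x hx z hz => ?_⟩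
  · exact e.injective (by
      simpa using (h.abc (e x) (fun h' => hx ((hc x).mpr h')) (e a) (e b) (ha.map e) (hb.map e)).eq)
  · obtain ⟨s, hs⟩ := h.full (e x) (fun h' => hx ((hc x).mpr h')) (e z) ((hc z).mp hz)
    exact ⟨e.symm s, e.injective (by simpa using hs)⟩

variable {Ω : Type u} [Group Ω] {S : Subgroup Ω} {F : Cfsg.FusionSystem S} {p : ℕ}

theorem mem_zc_iff {x : Ω} (hx : x ∈ S) : x ∈ Zc S ↔ (⟨x, hx⟩ : S) ∈ Subgroup.center S := by
  rw [Subgroup.mem_center_iff]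
  exact ⟨fun h y => Subtype.ext (zc_comm h y.2).eq.symm,
    fun h => mem_zc hx fun y hy => (congrArg Subtype.val (h ⟨y, hy⟩)).symm⟩

theorem centric_core_of_le [Finite S] [Fact p.Prime] (hF : F.IsSaturated p)
    (h : centralizerIn S F.core ≤ F.core) : F.IsConstrained p := by
  have hQ : F.IsNormal F.core := isNormal_core F
  have hQc := Fusion.stronglyClosed_of_normal hQ
  refine ⟨hF, F.core, hQ, hQ.1, fun Q' hQ' => ?_⟩
  obtain ⟨f, hf⟩ := Fusion.isConj_iff.mp hQ'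
  obtain rfl : F.core = Q' := by
    apply SetLike.coe_injective
    rw [← hf.2]
    refine (Set.Subset.antisymm ?_ fun y hy => ?_).symm
    · rintro _ ⟨x, hx, rfl⟩
      exact (Fusion.stronglyClosed_iff.mp hQc).2 _ f hf.1 x hx hx
    · exact Fusion.surjOn_of_card_le hQ.1 hf.1.injOn
        (fun x hx => (Fusion.stronglyClosed_iff.mp hQc).2 _ f hf.1 x hx hx) le_rfl y hy
  exact h

theorem not_exotic_of_constrained [Finite S] [Fact p.Prime] (hS : IsPGroup p S)
    (h : F.IsConstrained p) : ¬ F.IsExotic p := by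
  obtain ⟨G, _, ι, hfin, hreal, hsyl, -⟩ := Fusion.exists_model hS h
  exact fun hex => hex.2 ⟨G, inferInstance, hfin, ι, hreal, hsyl⟩

/-- The centralizer of a normal subgroup is strongly closed. -/
theorem stronglyClosed_centralizer {Q : Subgroup Ω} (hQ : F.IsNormal Q) :
    F.StronglyClosed (centralizerIn S Q) := by
  refine Fusion.stronglyClosed_iff.mpr ⟨inf_le_left, fun P g hg x hx hxC => ⟨hg.apply_mem hx, ?_⟩⟩
  obtain ⟨g', hg', he, him⟩ := Fusion.normal_extendsStab hQ hg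
  rw [← he hx]
  refine Subgroup.mem_centralizer_iff.mpr fun y hy => ?_
  obtain ⟨z, hz, rfl⟩ : y ∈ g' '' (Q : Set Ω) := him.symm ▸ hy
  rw [← hg'.map_mul (le_sup_right (a := P) hz) (le_sup_left (b := Q) hx),
    ← hg'.map_mul (le_sup_left (b := Q) hx) (le_sup_right (a := P) hz),
    Subgroup.mem_centralizer_iff.mp hxC.2 z hz]

/-- The centre of `S` is invariant under the automorphisms of a centric fully normalized
subgroup when a non-trivial central subgroup is normal. -/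
theorem zc_invariant [Finite S] [Fact p.Prime] (hS : IsPGroup p S) (hF : F.IsSaturated p)
    (hH : HeisKind S) {Q : Subgroup Ω} (hQ : F.IsNormal Q) (hQ1 : Q ≠ ⊥) (hQZ : Q ≤ Zc S)
    {P : Subgroup Ω} (hc : F.IsCentric P) (hn : F.IsFullyNormalized P) :
    ∀ α ∈ F.autGroup P, ∀ x ∈ Zc S, autFun α x ∈ Zc S := by
  classical
  haveI := finite_of_le hc.1
  have hZP : Zc S ≤ P := fun z hz => hc.2 P (Fusion.isConj_refl hc.1)
    ⟨zcS_le hz, Subgroup.mem_centralizer_iff.mpr fun y hy => (zc_comm hz (hc.1 hy)).eq.symm⟩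
  have hap : ∀ (α : MulAut P) {x : Ω}, x ∈ P → autFun α x ∈ P := fun α x hx => by
    rw [autFun_of_mem α hx]; exact (α ⟨x, hx⟩).2
  by_cases hcase : ∀ x ∈ P, (∀ y ∈ P, Commute x y) → x ∈ Zc S
  · intro α _ x hx
    refine hcase _ (hap α (hZP hx)) fun y hy => ?_
    have h1 : Commute (⟨x, hZP hx⟩ : P) (α⁻¹ ⟨y, hy⟩) :=
      Subtype.ext (zc_comm hx (hc.1 (α⁻¹ ⟨y, hy⟩ : P).2)).eq
    have h2 : (α (α⁻¹ ⟨y, hy⟩ : P)) = ⟨y, hy⟩ := by
      rw [← MulAut.mul_apply, mul_inv_cancel, MulAut.one_apply]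
    have h3 := h1.map (α : MulAut P).toMonoidHom
    simp only [MulEquiv.coe_toMonoidHom, h2] at h3
    rw [autFun_of_mem α (hZP hx)]
    exact congrArg Subtype.val h3.eq
  simp only [not_forall] at hcase
  obtain ⟨x₀, hx₀P, hx₀c, hx₀Z⟩ := hcase
  have hPab : ∀ a ∈ P, ∀ b ∈ P, Commute a b := fun a ha b hb =>
    congrArg Subtype.val (hH.abc ⟨x₀, hc.1 hx₀P⟩ (fun h => hx₀Z ((mem_zc_iff (hc.1 hx₀P)).mpr h))
      ⟨a, hc.1 ha⟩ ⟨b, hc.1 hb⟩ (Subtype.ext (hx₀c a ha).eq.symm) (Subtype.ext (hx₀c b hb).eq.symm)).eq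
  have hcm : ∀ s ∈ S, ∀ x ∈ S, x⁻¹ * (s * x * s⁻¹) ∈ Zc S := fun s hs x hx => by
    refine (mem_zc_iff (mul_mem (inv_mem hx) (mul_mem (mul_mem hs hx) (inv_mem hs)))).mpr ?_
    have h1 := (Subgroup.center ↥S).inv_mem (hH.comm (⟨x, hx⟩ : S) ⟨s, hs⟩)
    have h2 : ((⟨x, hx⟩ : S) * ⟨s, hs⟩ * (⟨x, hx⟩ : S)⁻¹ * (⟨s, hs⟩ : S)⁻¹)⁻¹ =
        ⟨s, hs⟩ * ⟨x, hx⟩ * (⟨s, hs⟩ : S)⁻¹ * (⟨x, hx⟩ : S)⁻¹ := by group
    rw [h2] at h1
    have h3 := Subgroup.mem_center_iff.mp h1 (⟨x, hx⟩ : S)⁻¹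
    have h4 : (⟨x⁻¹ * (s * x * s⁻¹), mul_mem (inv_mem hx) (mul_mem (mul_mem hs hx) (inv_mem hs))⟩ : S)
        = ⟨s, hs⟩ * ⟨x, hx⟩ * (⟨s, hs⟩ : S)⁻¹ * (⟨x, hx⟩ : S)⁻¹ := by
      rw [show (⟨x⁻¹ * (s * x * s⁻¹), _⟩ : S) =
        (⟨x, hx⟩ : S)⁻¹ * (⟨s, hs⟩ * ⟨x, hx⟩ * (⟨s, hs⟩ : S)⁻¹) from rfl]
      rw [← mul_assoc] at h3 ⊢
      calc _ = (⟨x, hx⟩ : S)⁻¹ * (⟨s, hs⟩ * ⟨x, hx⟩ * (⟨s, hs⟩ : S)⁻¹ * (⟨x, hx⟩ : S)⁻¹) * ⟨x, hx⟩ := by
            group
        _ = _ := by rw [show (⟨x, hx⟩ : S)⁻¹ * (⟨s, hs⟩ * ⟨x, hx⟩ * (⟨s, hs⟩ : S)⁻¹ * (⟨x, hx⟩ : S)⁻¹)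
            = (⟨s, hs⟩ * ⟨x, hx⟩ * (⟨s, hs⟩ : S)⁻¹ * (⟨x, hx⟩ : S)⁻¹) * (⟨x, hx⟩ : S)⁻¹ from
              Subgroup.mem_center_iff.mp h1 _]; group
    rw [h4]
    exact h1
  have hPn : ∀ s ∈ S, s ∈ Subgroup.normalizer (P : Set Ω) := fun s hs => by
    have hmap : ∀ t ∈ S, ∀ x ∈ P, t * x * t⁻¹ ∈ P := fun t ht x hx => by
      rw [show t * x * t⁻¹ = x * (x⁻¹ * (t * x * t⁻¹)) by group]
      exact mul_mem hx (hZP (hcm t ht x (hc.1 hx)))
    refine Subgroup.mem_normalizer_iff.mpr fun y => ⟨hmap s hs y, fun hy => ?_⟩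
    simpa [mul_assoc] using hmap s⁻¹ (inv_mem hs) _ hy
  -- the stabilizer of the chain is the Sylow subgroup of the automizer
  set K := stab F hc.1 (W := Zc S) (V := P) hZP le_rfl with hK
  obtain ⟨T, hT⟩ := (fullyAutomized_of_fullyNormalized hS hF hn).2
  have hKT : K = (T : Subgroup (F.autGroup P)) := by
    refine T.is_maximal' (stab_isPGroup F hS hc.1 hZP le_rfl) ?_
    intro β hβ
    rw [hT, Subgroup.mem_subgroupOf] at hβ
    obtain ⟨s, hs, hsβ⟩ := mem_autInducedBy.mp hβ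
    have hap' : ∀ x ∈ P, autFun (β : MulAut P) x = s * x * s⁻¹ := fun x hx => by
      rw [autFun_of_mem _ hx]; exact hsβ ⟨x, hx⟩
    exact ⟨fun w hw => by rw [hap' w (hZP hw), ← (zc_comm hw hs).eq, mul_inv_cancel_right],
      fun v hv => by rw [hap' v hv]; exact hcm s hs v (hc.1 hv),
      fun v hv => by
        rw [hap' v hv]
        exact P.mul_mem (P.inv_mem hv) ((Subgroup.mem_normalizer_iff.mp (hPn s hs) v).mp hv)⟩
  have hmul : ∀ (a b : MulAut P) {x : Ω}, x ∈ P → autFun (a * b) x = autFun a (autFun b x) :=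
    fun a b x hx => autFun_mul a b hx
  have hinvl : ∀ (a : MulAut P) {x : Ω}, x ∈ P → autFun a⁻¹ (autFun a x) = x := fun a x hx => by
    rw [← hmul _ _ hx, inv_mul_cancel]; exact autFun_one hx
  have hinvr : ∀ (a : MulAut P) {x : Ω}, x ∈ P → autFun a (autFun a⁻¹ x) = x := fun a x hx => by
    rw [← hmul _ _ hx, mul_inv_cancel]; exact autFun_one hx
  have hQfix : ∀ α ∈ F.autGroup P, autFun α '' (Q : Set Ω) = Q := fun α hα => by
    have hQc := (Fusion.stronglyClosed_iff.mp (Fusion.stronglyClosed_of_normal hQ)).2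
    have hm := ((mem_autGroup hc.1).mp hα).1
    refine Set.Subset.antisymm ?_ fun y hy => ?_
    · rintro _ ⟨x, hx, rfl⟩
      exact hQc P _ hm x (hZP (hQZ hx)) hx
    · exact Fusion.surjOn_of_card_le hQ.1 (hm.injOn.mono (hQZ.trans hZP))
        (fun x hx => hQc P _ hm x (hZP (hQZ hx)) hx) le_rfl y hy
  set Zs : MulAut P → Set Ω := fun α => autFun α '' (Zc S : Set Ω) with hZs
  have hfinZ : (Zc S : Set Ω).Finite := by
    haveI := finite_of_le (zcS_le (S := S))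
    exact Set.toFinite _
  have hncard : ∀ α : MulAut P, (Zs α).ncard = (Zc S : Set Ω).ncard := fun α =>
    Set.InjOn.ncard_image fun a ha b hb hab => by
      rw [← hinvl α (hZP ha), ← hinvl α (hZP hb), hab]
  intro α₀ hα₀ x₁ hx₁
  by_contra hbad
  set A := {α : F.autGroup P | Zs (α : MulAut P) ≠ (Zc S : Set Ω)} with hA
  have hAne : A.Nonempty := ⟨⟨α₀, hα₀⟩, fun h => hbad (h.subset ⟨x₁, hx₁, rfl⟩)⟩
  haveI := Fus93.finite_autGroup (F := F) hc.1
  obtain ⟨α, hαA, hαmax⟩ := Set.exists_max_image A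
    (fun α : F.autGroup P => ((Zc S : Set Ω) ∩ Zs (α : MulAut P)).ncard) (Set.toFinite _) hAne
  set a : MulAut P := (α : MulAut P) with ha
  obtain ⟨e, he, heZ⟩ : ∃ e ∈ Zs a, e ∉ Zc S := by
    by_contra hno
    simp only [not_exists, not_and, not_not] at hno
    exact hαA (Set.eq_of_subset_of_ncard_le hno (hncard a).ge hfinZ)
  obtain ⟨q, hqQ, hq1⟩ := (Subgroup.bot_or_exists_ne_one Q).resolve_left hQ1
  obtain ⟨w, hw, rfl⟩ := he
  have heP : autFun a w ∈ P := hap a (hZP hw)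
  obtain ⟨⟨s, hs⟩, hsx⟩ := hH.full ⟨autFun a w, hc.1 heP⟩
    (fun h => heZ ((mem_zc_iff (hc.1 heP)).mpr h)) ⟨q, zcS_le (hQZ hqQ)⟩
    ((mem_zc_iff _).mp (hQZ hqQ))
  have hsx' : s * autFun a w * s⁻¹ = autFun a w * q := congrArg Subtype.val hsx
  set b : MulAut P := conjAutHom S P ⟨s, hs, hPn s hs⟩ with hb
  have hbi : b ∈ autInducedBy S P := range_conjAutHom S P ▸ ⟨_, rfl⟩
  have hbA : b ∈ F.autGroup P := autInducedBy_le_autGroup hc.1 hbi
  have hbap : ∀ x ∈ P, autFun b x = s * x * s⁻¹ := fun x hx => autFun_of_mem b hx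
  set β : F.autGroup P := ⟨b, hbA⟩
  have hβK : β ∈ K := by
    rw [hKT, hT]; exact hbi
  have hbZ : ∀ z ∈ Zc S, autFun b z = z := hβK.1
  -- `b` moves the image of the centre
  have hne : Zs ((a⁻¹ * b * a : MulAut P)) ≠ (Zc S : Set Ω) := by
    intro hfix
    set γ : F.autGroup P := α⁻¹ * β * α with hγ
    have hγe : (γ : MulAut P) = a⁻¹ * b * a := rfl
    have hγN : γ ∈ Subgroup.normalizer (K : Set (F.autGroup P)) := by
      refine Fusion91.PSL.mem_normalizer_of_maps fun δ hδ => ?_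
      set g : MulAut P := (γ : MulAut P)
      set d : MulAut P := (δ : MulAut P)
      have hgi : ∀ z ∈ Zc S, autFun g⁻¹ z ∈ Zc S := fun z hz => by
        obtain ⟨z', hz', hze⟩ : z ∈ Zs g := hfix.symm.subset hz
        rw [← hze, hinvl g (hZP hz')]; exact hz'
      have hgz : ∀ z ∈ Zc S, autFun g z ∈ Zc S := fun z hz => hfix.subset ⟨z, hz, rfl⟩
      refine ⟨fun z hz => ?_, fun v hv => ?_, fun v hv => ?_⟩
      · show autFun (g * d * g⁻¹) z = z
        rw [hmul _ _ (hZP hz), hmul _ _ (hap _ (hZP hz)), hδ.1 _ (hgi z hz), hinvr g (hZP hz)]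
      · show v⁻¹ * autFun (g * d * g⁻¹) v ∈ Zc S
        rw [hmul _ _ hv, hmul _ _ (hap _ hv)]
        have h1 := hgz _ (hδ.2.1 _ (hap g⁻¹ hv))
        have hm := ((mem_autGroup hc.1).mp γ.2).1
        rwa [hm.map_mul (P.inv_mem (hap g⁻¹ hv)) (hap d (hap g⁻¹ hv)),
          hm.map_inv (hap g⁻¹ hv), hinvr g hv] at h1
      · exact P.mul_mem (P.inv_mem hv) (hap _ hv)
    have hγK : γ ∈ K := by
      obtain ⟨k, hk⟩ : ∃ k : ℕ, γ ^ p ^ k = 1 := by
        obtain ⟨k, hk⟩ := (stab_isPGroup F hS hc.1 (W := Zc S) hZP le_rfl) ⟨β, hβK⟩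
        refine ⟨k, ?_⟩
        have h1 : β ^ p ^ k = 1 := congrArg Subtype.val hk
        rw [hγ, show α⁻¹ * β * α = α⁻¹ * β * α⁻¹⁻¹ by rw [inv_inv], conj_pow, h1, mul_one,
          mul_inv_cancel]
      rw [hKT] at hγN ⊢
      have hp : IsPGroup p ↥(Subgroup.zpowers γ ⊔ (T : Subgroup (F.autGroup P))) :=
        IsPGroup.to_sup_of_normal_right' (H := Subgroup.zpowers γ)
          (fun ⟨y, hy⟩ => ⟨k, Subtype.ext (by
            obtain ⟨j, rfl⟩ := Subgroup.mem_zpowers_iff.mp hy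
            show (γ ^ j) ^ p ^ k = 1
            rw [← zpow_natCast, zpow_comm, zpow_natCast, hk, one_zpow])⟩)
          T.isPGroup' (Subgroup.zpowers_le.mpr hγN)
      have := T.is_maximal' hp le_sup_right
      exact this ▸ le_sup_left (a := Subgroup.zpowers γ) (Subgroup.mem_zpowers γ)
    have h1 := hγK.1 w hw
    rw [hγe, hmul _ _ (hZP hw), hmul _ _ (hap _ (hZP hw))] at h1
    have h2 := congrArg (autFun a) h1
    rw [hinvr a (hap b (hap a (hZP hw))), hbap _ heP, hsx'] at h2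
    exact hq1 (mul_eq_left.mp h2)
  -- a larger intersection
  set c : F.autGroup P := α⁻¹ * β * α
  have hcc : (c : MulAut P) = a⁻¹ * b * a := rfl
  have hle := hαmax c (by show Zs (c : MulAut P) ≠ _; rwa [hcc])
  have hqa : q ∈ autFun a '' (Q : Set Ω) := (hQfix a α.2).symm.subset hqQ
  obtain ⟨q', hq'Q, hq'⟩ := hqa
  have hsub : autFun a⁻¹ '' (((Zc S : Set Ω) ∩ Zs a) ∪ {autFun a w}) ⊆
      (Zc S : Set Ω) ∩ Zs (c : MulAut P) := by
    rintro _ ⟨y, hy, rfl⟩
    have hy1 : ∃ z ∈ Zc S, autFun a z = y := by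
      rcases hy with hy | rfl
      · exact hy.2
      · exact ⟨w, hw, rfl⟩
    obtain ⟨z, hz, rfl⟩ := hy1
    rw [hinvl a (hZP hz)]
    refine ⟨hz, ?_⟩
    have hy2 : ∃ z' ∈ Zc S, autFun b (autFun a z') = autFun a z := by
      rcases hy with hy | hy
      · exact ⟨z, hz, hbZ _ hy.1⟩
      · refine ⟨w * q'⁻¹, mul_mem hw (inv_mem (hQZ hq'Q)), ?_⟩
        have hm := ((mem_autGroup hc.1).mp α.2).1
        have hmb := ((mem_autGroup hc.1).mp hbA).1
        have hqP : q' ∈ P := hZP (hQZ hq'Q)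
        rw [Set.mem_singleton_iff.mp hy, hm.map_mul (hZP hw) (P.inv_mem hqP), hm.map_inv hqP, hq',
          hmb.map_mul heP (P.inv_mem (hZP (hQZ hqQ))), hmb.map_inv (hZP (hQZ hqQ)),
          hbZ q (hQZ hqQ), hbap _ heP, hsx', mul_inv_cancel_right]
    obtain ⟨z', hz', he'⟩ := hy2
    refine ⟨z', hz', ?_⟩
    rw [hcc, hmul _ _ (hZP hz'), hmul _ _ (hap _ (hZP hz')), he', hinvl a (hZP hz)]
  have hfin : ((Zc S : Set Ω) ∩ Zs a).Finite := hfinZ.inter_of_left _
  have h1 := (Set.ncard_le_ncard hsub (hfinZ.inter_of_left _)).trans hle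
  rw [Set.InjOn.ncard_image, Set.ncard_union_eq (Set.disjoint_singleton_right.mpr fun h => heZ h.1)
    hfin (Set.finite_singleton _), Set.ncard_singleton] at h1
  · omega
  · intro y hy y' hy' hyy
    have hyP : ∀ {y : Ω}, y ∈ ((Zc S : Set Ω) ∩ Zs a) ∪ {autFun a w} → y ∈ P := by
      rintro y (h | rfl)
      · exact hZP h.1
      · exact heP
    rw [← hinvr a (hyP hy), ← hinvr a (hyP hy'), hyy]

/-- A saturated system with non-trivial core over a group of Heisenberg kind is constrained. -/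
theorem isConstrained_of_heisKind [Finite S] [Fact p.Prime] (hS : IsPGroup p S)
    (hF : F.IsSaturated p) (hH : HeisKind S) (hQ1 : F.core ≠ ⊥) : F.IsConstrained p := by
  have hQ := isNormal_core F
  by_cases hQZ : F.core ≤ Zc S
  · refine isConstrained_of_chain hS hF ?_
    have hZsc : F.StronglyClosed (Zc S) := by
      refine Fusion.stronglyClosed_iff.mpr ⟨zcS_le, ?_⟩
      refine alperin_induction_cr hS hF (fun P f => ∀ x ∈ P, x ∈ Zc S → f x ∈ Zc S)
        (fun P f g h he x hx hxZ => he hx ▸ h x hx hxZ)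
        (fun P R f g hf _ h1 h2 x hx hxZ => h2 _ (hf.mem hx) (h1 x hx hxZ))
        (fun P R f _ hle h x hx => h x (hle hx)) fun E hc hr hn f hf x hx hxZ => ?_
      obtain ⟨β, hβ, he⟩ := hf.exists_aut
      rw [← he hx]
      exact zc_invariant hS hF hH hQ hQ1 hQZ hc hn β hβ x hxZ
    refine ((HasAbelianChain.bot F).snoc bot_le hZsc ?_).snoc zcS_le ?_ ?_
    · refine Subgroup.commutator_le.mpr fun a ha b hb => Subgroup.mem_bot.mpr ?_
      exact commutatorElement_eq_one_iff_mul_comm.mpr (zc_comm ha (zcS_le hb)).eq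
    · exact Fusion.stronglyClosed_iff.mpr ⟨le_rfl, fun R f hf x hx _ => hf.apply_mem hx⟩
    · refine Subgroup.commutator_le.mpr fun a ha b hb => ?_
      rw [commutatorElement_def]
      exact (mem_zc_iff (mul_mem (mul_mem (mul_mem ha hb) (inv_mem ha)) (inv_mem hb))).mpr
        (hH.comm ⟨a, ha⟩ ⟨b, hb⟩)
  obtain ⟨x, hxQ, hxZ⟩ := SetLike.not_le_iff_exists.mp hQZ
  refine centric_core_of_le hF ?_
  have hxS := hQ.1 hxQ
  have hab : ∀ a ∈ centralizerIn S F.core, ∀ b ∈ centralizerIn S F.core, Commute a b :=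
    fun a ha b hb => congrArg Subtype.val (hH.abc ⟨x, hxS⟩
      (fun h => hxZ ((mem_zc_iff hxS).mpr h)) ⟨a, ha.1⟩ ⟨b, hb.1⟩
      (Subtype.ext (Subgroup.mem_centralizer_iff.mp ha.2 x hxQ).symm)
      (Subtype.ext (Subgroup.mem_centralizer_iff.mp hb.2 x hxQ).symm)).eq
  have hCn : F.IsNormal (centralizerIn S F.core) := by
    have := Fus93.isNormal_of_chain hS hF 1
      (fun i => if i = 0 then ⊥ else centralizerIn S F.core) (if_pos rfl) (fun i _ => ?_) ?_
    · simpa using this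
    · by_cases hi : i = 0
      · rw [if_pos hi]; exact stronglyClosed_bot F
      · rw [if_neg hi]; exact stronglyClosed_centralizer hQ
    · intro i hi y hy g hg
      obtain rfl : i = 0 := by omega
      simp only [Nat.zero_add, one_ne_zero, if_false, if_true, Subgroup.mem_bot] at hy hg ⊢
      rw [(hab g hg y hy).eq, mul_inv_cancel_right, inv_mul_cancel]
  exact le_core hCn

theorem core_eq_bot_of_heisKind [Finite S] [Fact p.Prime] (hS : IsPGroup p S)
    (hF : F.IsSaturated p) (hH : HeisKind S) (hex : F.IsExotic p) : F.core = ⊥ :=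
  by_contra fun h => not_exotic_of_constrained hS (isConstrained_of_heisKind hS hF hH h) hex

end Cfsg.Agent.Fusion91
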