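import Cfsg.Agent.Fusion91.SylowSL.Core
import Cfsg.Agent.AutPSL.Sylow

set_option autoImplicit false

/-! The Sylow subgroup of `SL₃` in the defining characteristic is of Heisenberg kind. -/

namespace Cfsg.Agent.Fusion91.SylowSL

open Matrix
open Cfsg.Agent.AutPSL (uni mem_uni IsUni)

variable {K : Type*} [Field K] [Fintype K]

/-- The coordinates of a unitriangular matrix. -/
def crd (x : uni 3 K) : K × K × K :=
  ((x : Matrix.SpecialLinearGroup (Fin 3) K).1 0 1, (x : Matrix.SpecialLinearGroup (Fin 3) K).1 1 2,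
    (x : Matrix.SpecialLinearGroup (Fin 3) K).1 0 2)

theorem crd_injective : Function.Injective (crd (K := K)) := by
  intro x y h
  simp only [crd, Prod.mk.injEq] at h
  refine Subtype.ext (Subtype.ext (Matrix.ext fun i j => ?_))
  by_cases hij : j ≤ i
  · rw [(mem_uni.mp x.2) i j hij, (mem_uni.mp y.2) i j hij]
  · fin_cases i <;> fin_cases j <;> first | exact h.1 | exact h.2.1 | exact h.2.2 | exact absurd (by decide) hij

theorem crd_mul (x y : uni 3 K) :
    crd (x * y) = ((crd x).1 + (crd y).1, (crd x).2.1 + (crd y).2.1,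
      (crd x).2.2 + (crd y).2.2 + (crd x).1 * (crd y).2.1) := by
  have hx := mem_uni.mp x.2
  have hy := mem_uni.mp y.2
  simp only [crd, Subgroup.coe_mul, Matrix.SpecialLinearGroup.coe_mul, Matrix.mul_apply,
    Fin.sum_univ_three, Prod.mk.injEq]
  rw [hx 0 0 le_rfl, hx 1 0 (by decide), hx 1 1 le_rfl, hy 1 1 le_rfl, hy 2 1 (by decide),
    hy 2 2 le_rfl]
  simp only [if_true, Fin.reduceEq, if_false]
  exact ⟨by ring, by ring, by ring⟩

theorem exists_crd (a b c : K) : ∃ x : uni 3 K, crd x = (a, b, c) := by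
  refine ⟨⟨⟨!![1, a, c; 0, 1, b; 0, 0, 1], by simp [Matrix.det_fin_three]⟩, mem_uni.mpr ?_⟩, rfl⟩
  intro i j hij
  fin_cases i <;> fin_cases j <;> first | exact absurd hij (by decide) | simp

theorem commute_iff (x y : uni 3 K) :
    Commute x y ↔ (crd x).1 * (crd y).2.1 = (crd y).1 * (crd x).2.1 := by
  rw [commute_iff_eq, ← crd_injective.eq_iff, crd_mul, crd_mul]
  simp only [Prod.mk.injEq]
  exact ⟨fun h => by linear_combination h.2.2,
    fun h => ⟨by ring, by ring, by linear_combination h⟩⟩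

theorem mem_center_iff (x : uni 3 K) :
    x ∈ Subgroup.center (uni 3 K) ↔ (crd x).1 = 0 ∧ (crd x).2.1 = 0 := by
  rw [Subgroup.mem_center_iff]
  refine ⟨fun h => ?_, fun h y => ?_⟩
  · obtain ⟨y₁, h₁⟩ := exists_crd (1 : K) 0 0
    obtain ⟨y₂, h₂⟩ := exists_crd (0 : K) 1 0
    have e₁ := (commute_iff y₁ x).mp (h y₁)
    have e₂ := (commute_iff y₂ x).mp (h y₂)
    rw [h₁] at e₁; rw [h₂] at e₂
    exact ⟨by simpa using e₂.symm, by simpa using e₁⟩
  · exact (commute_iff y x).mpr (by rw [h.1, h.2]; ring)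

theorem heisKind_uni : HeisKind (uni 3 K) := by
  refine ⟨fun x y => ?_, fun x hx a b ha hb => ?_, fun x hx z hz => ?_⟩
  · obtain ⟨w, hw⟩ : ∃ w, w = x * y * x⁻¹ * y⁻¹ := ⟨_, rfl⟩
    rw [← hw]
    have h := crd_mul w (y * x)
    rw [show w * (y * x) = x * y by rw [hw]; group, crd_mul, crd_mul] at h
    simp only [Prod.mk.injEq] at h
    exact (mem_center_iff _).mpr ⟨by linear_combination -h.1, by linear_combination -h.2.1⟩
  · rw [commute_iff] at ha hb ⊢
    rcases ne_or_eq (crd x).1 0 with h | h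
    · exact mul_left_cancel₀ h (by linear_combination (crd b).1 * ha - (crd a).1 * hb)
    · have h2 : (crd x).2.1 ≠ 0 := fun h2 => hx ((mem_center_iff x).mpr ⟨h, h2⟩)
      exact mul_left_cancel₀ h2 (by linear_combination (crd b).2.1 * ha - (crd a).2.1 * hb)
  · obtain ⟨hz1, hz2⟩ := (mem_center_iff z).mp hz
    have hkey : ∃ a b : K, a * (crd x).2.1 - (crd x).1 * b = (crd z).2.2 := by
      rcases ne_or_eq (crd x).2.1 0 with h | h
      · exact ⟨(crd z).2.2 / (crd x).2.1, 0, by field_simp; ring⟩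
      · have h2 : (crd x).1 ≠ 0 := fun h2 => hx ((mem_center_iff x).mpr ⟨h2, h⟩)
        exact ⟨0, -(crd z).2.2 / (crd x).1, by field_simp; ring⟩
    obtain ⟨a, b, hab⟩ := hkey
    obtain ⟨s, hs⟩ := exists_crd a b 0
    refine ⟨s, mul_inv_eq_iff_eq_mul.mpr (crd_injective ?_)⟩
    rw [crd_mul, crd_mul, crd_mul, hs, hz1, hz2]
    simp only [Prod.mk.injEq]
    exact ⟨by ring, by ring, by linear_combination hab⟩

theorem heisKind_of_equiv {p : ℕ} [Fact p.Prime] [CharP K p]
    (T : Sylow p (Matrix.SpecialLinearGroup (Fin 3) K)) {G : Type*} [Group G]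
    (e : G ≃* ↥(T : Subgroup (Matrix.SpecialLinearGroup (Fin 3) K))) : HeisKind G := by
  have e2 : ↥(T : Subgroup (Matrix.SpecialLinearGroup (Fin 3) K)) ≃* uni 3 K :=
    (T.equiv (Cfsg.Agent.AutPSL.uniSylow 3 K p))
  exact HeisKind.of_equiv (e.trans e2) heisKind_uni

end Cfsg.Agent.Fusion91.SylowSL
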